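import Cfsg.Agent.H33.SylU.Embed
import Cfsg.Agent.H33.SylU.Transfer
import Cfsg.Agent.H53.U34.Defs

/-!
# A Sylow 2-subgroup of `PSU₃(4)` has the shape used for the groups with such Sylow subgroups
-/

set_option autoImplicit false
set_option linter.unusedSectionVars false

namespace Cfsg.Agent.H31.U34

open Cfsg Cfsg.Agent.H33.SylU Cfsg.Agent.H53.U34

/-- The shape is invariant under isomorphisms. -/
theorem Shape.of_equiv {A B : Type*} [Group A] [Group B] (e : A ≃* B) (h : Shape A) : Shape B := by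
  have hc : ∀ b : B, b ∈ Subgroup.center B ↔ e.symm b ∈ Subgroup.center A := by
    intro b
    rw [Subgroup.mem_center_iff, Subgroup.mem_center_iff]
    constructor
    · intro hb g
      apply e.injective
      simpa using hb (e g)
    · intro hb g
      apply e.symm.injective
      simpa using hb (e.symm g)
  refine ⟨(Nat.card_congr e.toEquiv).symm.trans h.card, ?_, ?_, ?_, ?_, ?_⟩
  · rw [← h.card_center]
    exact Nat.card_congr (e.symm.toEquiv.subtypeEquiv fun b => hc b)
  · intro x
    rw [hc, ← h.sq_eq_one, ← map_mul, MulEquiv.map_eq_one_iff]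
  · intro x
    rw [hc, map_mul]
    exact h.sq_mem _
  · intro x hx z hz
    obtain ⟨y, hy⟩ := h.commutator _ (fun hh => hx ((hc x).2 hh)) _ ((hc z).1 hz)
    exact ⟨e y, e.symm.injective (by simpa using hy)⟩
  · intro φ hodd hfix
    have ho : orderOf ((autCongr e.symm) φ) = orderOf φ := MulEquiv.orderOf_eq _ φ
    rcases h.aut ((autCongr e.symm) φ) (by rw [ho]; exact hodd) (fun z hz => by
        show e.symm (φ (e z)) = z
        rw [hfix (e z) ((hc _).2 (by rwa [e.symm_apply_apply])), e.symm_apply_apply]) with h1 | ⟨h5, hfp⟩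
    · exact Or.inl ((map_eq_one_iff _ (autCongr e.symm).injective).1 h1)
    · refine Or.inr ⟨ho ▸ h5, fun x hx => (hc x).2 (hfp (e.symm x) ?_)⟩
      show e.symm (φ (e (e.symm x))) * (e.symm x)⁻¹ ∈ Subgroup.center A
      rw [e.apply_symm_apply, ← map_inv, ← map_mul]
      exact (hc _).1 hx

variable {F : Type*} [Field F] [Fintype F] [hQ : QField F 2]

include hQ

/-- An automorphism trivial on first coordinates has square one. -/
theorem sq_of_amap_id {φ : MulAut (Heis F 2)} (hφ : ∀ a, amap φ a = a) : φ * φ = 1 := by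
  refine MulEquiv.ext fun g => ?_
  show φ (φ g) = g
  have hd : (g⁻¹ * φ g).a = 0 := by
    rw [mul_a, inv_a, amap_spec, hφ, add_self]
  have h1 := ker_fix_center hφ hd
  rw [map_mul, map_inv, inv_mul_eq_iff_eq_mul] at h1
  have hsq : (g⁻¹ * φ g) * (g⁻¹ * φ g) = 1 := mul_self_eq_one_iff.2 hd
  rw [h1]
  calc φ g * (g⁻¹ * φ g) = g * ((g⁻¹ * φ g) * (g⁻¹ * φ g)) := by group
    _ = g := by rw [hsq, mul_one]

/-- The model has the shape. -/
theorem shape_heis : Shape (Heis F 2) := by
  refine ⟨by rw [card_heis]; norm_num, by rw [card_center]; norm_num,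
    fun x => mul_self_eq_one_iff.trans mem_center_iff.symm,
    fun x => mem_center_iff.2 (by rw [sq_eq]; rfl), ?_, ?_⟩
  · intro x hx z hz
    have hxa : cj2 2 x.a ≠ 0 := fun h => hx (mem_center_iff.2 (cj2_eq_zero.1 h))
    obtain ⟨u, hu⟩ := exists_tr_eq (fixed_of_a_eq_zero (mem_center_iff.1 hz))
    obtain ⟨y, hy⟩ := exists_lift (F := F) (n := 2) (u / cj2 2 x.a)
    refine ⟨y, ?_⟩
    rw [commutatorElement_eq]
    refine Heis.ext (mem_center_iff.1 hz).symm ?_
    show tr 2 (cj2 2 x.a * y.a) = z.b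
    rw [hy, mul_div_cancel₀ _ hxa, hu]
  · intro φ hodd hfix
    obtain ⟨k, hk⟩ := hodd
    have hsmall : ∀ ψ : MulAut (Heis F 2), (∀ a, amap ψ a = a) → Odd (orderOf ψ) → ψ = 1 := by
      intro ψ hψ ho
      have h2 : orderOf ψ ∣ 2 := orderOf_dvd_of_pow_eq_one (by rw [sq, sq_of_amap_id hψ])
      rcases (Nat.dvd_prime Nat.prime_two).1 h2 with h | h
      · exact orderOf_eq_one_iff.1 h
      · rw [h] at ho; exact absurd ho (by decide)
    -- the field automorphism is trivial
    let f : MulAut (Heis F 2) →* (F ≃+* F) := MonoidHom.mk' tau tau_mul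
    have hτ : tau φ = 1 := by
      have h1 : orderOf (f φ) ∣ orderOf φ := orderOf_map_dvd f φ
      have h4 : orderOf (f φ) ∣ 2 ^ 2 := by
        rw [show (2 : ℕ) ^ 2 = Nat.card (F ≃+* F) by rw [(ringEquiv_card (F := F)).1]; norm_num]
        exact orderOf_dvd_natCard _
      have hc : Nat.Coprime (orderOf φ) (2 ^ 2) :=
        Nat.Coprime.pow_right 2 ((Nat.coprime_two_right).2 ⟨k, hk⟩)
      have := Nat.eq_one_of_dvd_coprimes hc h1 h4
      exact orderOf_eq_one_iff.1 this
    set l := amap φ 1 with hl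
    have hlin : ∀ a, amap φ a = l * a := fun a => by
      rw [tau_spec φ a, hτ]; rfl
    have hnl : nm 2 l = 1 := by
      let one' : Fix F 2 := ⟨1, cj2_one⟩
      have h := bmap_eq (α := φ) (τ := 1) (fun a => by rw [hlin]; rfl) one'
      rw [bmap, hfix _ (mem_center_iff.2 (cen_a one'))] at h
      exact (h.trans (by rw [show (one'.1 : F) = 1 from rfl, map_one, mul_one])).symm
    have hpow : ∀ (j : ℕ) (a : F), amap (φ ^ j) a = l ^ j * a := by
      intro j
      induction j with
      | zero => intro a; rw [pow_zero, pow_zero, amap_one, one_mul]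
      | succ j ih => intro a; rw [pow_succ, amap_mul, hlin, ih, pow_succ, mul_assoc]
    by_cases hl1 : l = 1
    · exact Or.inl (hsmall φ (fun a => by rw [hlin, hl1, one_mul]) ⟨k, hk⟩)
    · right
      have hl5 : l ^ 5 = 1 := by
        rw [show (5 : ℕ) = 1 + 2 ^ 2 from rfl, pow_add, pow_one]; exact hnl
      have ho5 : φ ^ 5 = 1 := hsmall _ (fun a => by rw [hpow, hl5, one_mul])
        (Odd.of_dvd_nat ⟨k, hk⟩ (orderOf_pow_dvd 5))
      haveI : Fact (Nat.Prime 5) := ⟨by norm_num⟩
      refine ⟨orderOf_eq_prime ho5 ?_, fun x hx => ?_⟩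
      · intro h
        exact hl1 (by rw [hl, h, amap_one])
      · rw [mem_center_iff] at hx ⊢
        rw [mul_a, inv_a, amap_spec, hlin] at hx
        by_contra hne
        apply hl1
        have h0 : (l + 1) * x.a = 0 := by rw [add_mul, one_mul]; exact hx
        rcases mul_eq_zero.1 h0 with h | h
        · linear_combination h - add_self (n := 2) (1 : F)
        · exact absurd h hne

omit hQ

/-- The Sylow 2-subgroups of `PSU₃(4)` have the shape. -/
theorem shape_of_iso {F : Type*} [Field F] [Fintype F] (hF : Fintype.card F = 16)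
    (P : Sylow 2 (Cfsg.PSU 3 F 4)) {S : Type*} [Group S]
    (e : S ≃* (P : Subgroup (Cfsg.PSU 3 F 4))) : Shape S := by
  haveI : QField F 2 := ⟨by rw [hF]; norm_num⟩
  have h : Nonempty (Heis F 2 ≃* (P : Subgroup (Cfsg.PSU 3 F 4))) :=
    nonempty_equiv_PSU (F := F) (n := 2) P
  obtain ⟨e'⟩ := h
  exact Shape.of_equiv (e'.trans e.symm) shape_heis

end Cfsg.Agent.H31.U34
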