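import Cfsg.Agent.H31.U34.Main
import Cfsg.Agent.H27.U34.Central

/-!
# The reduced groups with Sylow 2-subgroups of `PSU₃(4)`, from the simple case alone
-/

set_option autoImplicit false

namespace Cfsg.Agent.H31.U34

open Cfsg

universe u v

theorem centralCase : CentralCase.{u} := fun H _ _ T h hz =>
  H27.U34.sup_sylow_normal T h (by
    first
      | exact hz
      | rintro _ ⟨z, hz', rfl⟩; exact hz z hz')

theorem reduced {G : Type u} [Group G] [Finite G] {F : Type v} [Field F] [Fintype F]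
    (hF : Fintype.card F = 16) (h486 : SimpleCase.{u, v} F) (S : Sylow 2 G)
    (P : Sylow 2 (Cfsg.PSU 3 F 4))
    (hS : Nonempty (↥(S : Subgroup G) ≃* ↥(P : Subgroup (Cfsg.PSU 3 F 4))))
    (hO : Cfsg.oddCore G = ⊥) (hO' : ∀ N : Subgroup G, N.Normal → Odd N.index → N = ⊤) :
    Nonempty (G ≃* Cfsg.PSU 3 F 4) ∨ (S : Subgroup G) = ⊤ :=
  reduced_of_simpleCase hF centralCase h486 S P hS hO hO'

end Cfsg.Agent.H31.U34
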