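import Cfsg.Agent.H31.U34.Reduced

/-!
# The reduced groups with Sylow 2-subgroups of `PSU₃(4)`, from the simple case
-/

set_option autoImplicit false

namespace Cfsg.Agent.H31.U34

open Cfsg

universe u v

/-- The statement of the simple case for groups in one universe. -/
def SimpleCase (F : Type v) [Field F] : Prop :=
  ∀ (G : Type u) [Group G] [Finite G] [IsSimpleGroup G] (S : Sylow 2 G) (P : Sylow 2 (Cfsg.PSU 3 F 4)),
    Nonempty ((S : Subgroup G) ≃* (P : Subgroup (Cfsg.PSU 3 F 4))) → Nonempty (G ≃* Cfsg.PSU 3 F 4)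

theorem reduced_of_simpleCase {G : Type u} [Group G] [Finite G] {F : Type v} [Field F] [Fintype F]
    (hF : Fintype.card F = 16) (hC : CentralCase.{u}) (h486 : SimpleCase.{u, v} F) (S : Sylow 2 G)
    (P : Sylow 2 (Cfsg.PSU 3 F 4))
    (hS : Nonempty (↥(S : Subgroup G) ≃* ↥(P : Subgroup (Cfsg.PSU 3 F 4))))
    (hO : Cfsg.oddCore G = ⊥) (hO' : ∀ N : Subgroup G, N.Normal → Odd N.index → N = ⊤) :
    Nonempty (G ≃* Cfsg.PSU 3 F 4) ∨ (S : Subgroup G) = ⊤ := by
  obtain ⟨e⟩ := hS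
  rcases isSimpleGroup_or_top hC S (shape_of_iso hF P e) hO hO' with h | h
  · haveI := h
    exact Or.inl (h486 G S P ⟨e⟩)
  · exact Or.inr h

end Cfsg.Agent.H31.U34
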