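import Cfsg.Agent.H31.U34.Shape
import Cfsg.Agent.S0215
import Cfsg.Agent.Components.PAction
import Cfsg.Agent.H78.SylowCount

/-!
# Reduced groups with Sylow 2-subgroups of the shape of `PSU₃(4)`: simple or 2-groups

The input about groups with central `Z(S)` is a hypothesis here.
-/

set_option autoImplicit false
set_option linter.unusedSectionVars false
set_option linter.style.haveILetI false

namespace Cfsg.Agent.H31.U34

open Cfsg Cfsg.Agent.H53.U34 Cfsg.Agent.Components

universe u

/-- When the centre of a Sylow 2-subgroup is central, that Sylow subgroup is normal modulo the core. -/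
def CentralCase : Prop :=
  ∀ (H : Type u) [Group H] [Finite H] (T : Sylow 2 H), Shape (T : Subgroup H) →
    (∀ z : ↥(T : Subgroup H), z ∈ Subgroup.center ↥(T : Subgroup H) → (z : H) ∈ Subgroup.center H) →
    (Cfsg.oddCore H ⊔ (T : Subgroup H)).Normal

variable {G : Type u} [Group G] [Finite G]

theorem isSimpleGroup_or_top (hC : CentralCase.{u}) (S : Sylow 2 G) (hS : Shape (S : Subgroup G))
    (hO : Cfsg.oddCore G = ⊥) (hO' : ∀ N : Subgroup G, N.Normal → Odd N.index → N = ⊤) :
    IsSimpleGroup G ∨ (S : Subgroup G) = ⊤ := by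
  classical
  haveI : Fact (Nat.Prime 2) := ⟨Nat.prime_two⟩
  set Z := (Subgroup.center (S : Subgroup G)).map (S : Subgroup G).subtype with hZdef
  have hZS : Z ≤ (S : Subgroup G) := Subgroup.map_subtype_le _
  have cardZ : Nat.card Z = 4 := by
    rw [hZdef, Nat.card_congr ((Subgroup.center (S : Subgroup G)).equivMapOfInjective _
      (S : Subgroup G).subtype_injective).toEquiv.symm]
    exact hS.card_center
  have memZ : ∀ x : G, x ∈ Z ↔ x ∈ (S : Subgroup G) ∧ x * x = 1 := by
    intro x
    constructor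
    · rintro ⟨z, hz, rfl⟩
      exact ⟨z.2, congrArg Subtype.val ((hS.sq_eq_one z).2 hz)⟩
    · rintro ⟨hx, hsq⟩
      exact ⟨⟨x, hx⟩, (hS.sq_eq_one _).1 (Subtype.ext hsq), rfl⟩
  have Zcent : ∀ z ∈ Z, ∀ s ∈ (S : Subgroup G), s * z = z * s := by
    rintro _ ⟨z, hz, rfl⟩ s hs
    exact congrArg Subtype.val (Subgroup.mem_center_iff.1 hz ⟨s, hs⟩)
  have hsqS : ∀ s ∈ (S : Subgroup G), s * s ∈ Z := fun s hs =>
    ⟨⟨s, hs⟩ * ⟨s, hs⟩, hS.sq_mem _, rfl⟩
  by_cases hA : ∀ n ∈ Subgroup.normalizer ((S : Subgroup G) : Set G), ∀ z ∈ Z, n * z * n⁻¹ = z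
  · -- no fusion: the centre is central
    right
    have hcen : ∀ z ∈ Z, z ∈ Subgroup.center G := by
      intro z hz
      by_cases hz1 : z = 1
      · rw [hz1]; exact one_mem _
      have hz2 : orderOf z = 2 := orderOf_eq_prime (by rw [sq]; exact ((memZ z).1 hz).2) hz1
      have hiso : ∀ g : G, g * z * g⁻¹ ∈ S → g * z * g⁻¹ = z := by
        intro g hg
        have hgZ : g * z * g⁻¹ ∈ Z := (memZ _).2 ⟨hg, by
          rw [conj_mul, ((memZ z).1 hz).2, mul_one, mul_inv_cancel]⟩
        obtain ⟨n, hn, hn'⟩ := Sylow.conj_eq_normalizer_conj_of_mem_centralizer S z g⁻¹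
          (Subgroup.mem_centralizer_iff.2 fun s hs => Zcent z hz s hs)
          (Subgroup.mem_centralizer_iff.2 fun s hs => by
            rw [inv_inv]; exact Zcent _ hgZ s hs)
        rw [inv_inv] at hn'
        rw [hn']
        have := hA n⁻¹ (inv_mem hn) z hz
        rwa [inv_inv] at this
      obtain ⟨N, hN, hodd, hcomm⟩ := S0215.result S z hz2 (hZS hz) hiso
      haveI := hN
      have hNbot : N = ⊥ := le_bot_iff.1 (hO ▸ le_sSup ⟨hN, Nat.coprime_two_right.2 hodd⟩)
      rw [Subgroup.mem_center_iff]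
      intro g
      have h := hcomm g
      rw [hNbot, Subgroup.mem_bot, mul_inv_eq_one, mul_inv_eq_iff_eq_mul] at h
      exact h.symm
    have h := hC G S hS (fun z hz => hcen _ ⟨z, hz, rfl⟩)
    rw [hO, bot_sup_eq] at h
    exact hO' _ h (Nat.not_even_iff_odd.1 (fun h2 => S.not_dvd_index (even_iff_two_dvd.1 h2)))
  · -- a normalising element cycles the involutions of the centre
    left
    push Not at hA
    obtain ⟨n₀, hn₀, z₀, hz₀, hne⟩ := hA
    have hconjS : ∀ {n : G}, n ∈ Subgroup.normalizer ((S : Subgroup G) : Set G) → ∀ s ∈ (S : Subgroup G),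
        n * s * n⁻¹ ∈ (S : Subgroup G) := fun hn s hs => (Subgroup.mem_normalizer_iff.1 hn s).1 hs
    have hconjZ : ∀ {n : G}, n ∈ Subgroup.normalizer ((S : Subgroup G) : Set G) → ∀ z ∈ Z,
        n * z * n⁻¹ ∈ Z := fun hn z hz => (memZ _).2 ⟨hconjS hn z (hZS hz), by
      rw [conj_mul, ((memZ z).1 hz).2, mul_one, mul_inv_cancel]⟩
    -- fixed points of a fusing element of the normaliser
    have key : ∀ z ∈ Z, n₀ * z * n₀⁻¹ = z → z = 1 := by
      intro w hw hfix
      by_contra hw1
      -- the action fixes `w`, so it swaps the two others, but the swap has odd order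
      let Nz : Subgroup G := Subgroup.normalizer ((S : Subgroup G) : Set G)
      have hprod : ∀ x ∈ Z, x ≠ 1 → x ≠ w → ∀ y ∈ Z, y = 1 ∨ y = w ∨ y = x ∨ y = w * x := by
        intro x hx hx1 hxw y hy
        by_contra hy'
        push Not at hy'
        obtain ⟨y1, y2, y3, y4⟩ := hy'
        have hwx : w * x ∈ Z := mul_mem hw hx
        have hwx1 : w * x ≠ 1 := fun h => hxw (mul_left_cancel (h.trans ((memZ w).1 hw).2.symm))
        have hwxw : w * x ≠ w := fun h => hx1 (mul_eq_left.1 h)
        have hwxx : w * x ≠ x := fun h => hw1 (mul_eq_right.1 h)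
        have hsub : ({1, w, x, w * x, y} : Finset G) ⊆ (Set.toFinite (Z : Set G)).toFinset := by
          intro a ha
          simp only [Finset.mem_insert, Finset.mem_singleton] at ha
          rw [Set.Finite.mem_toFinset, SetLike.mem_coe]
          rcases ha with rfl | rfl | rfl | rfl | rfl
          exacts [one_mem _, hw, hx, hwx, hy]
        have hc := Finset.card_le_card hsub
        rw [← Nat.card_eq_card_finite_toFinset (Set.toFinite (Z : Set G)),
          show Nat.card (Z : Set G) = 4 from cardZ,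
          Finset.card_insert_of_notMem (by simp [Ne.symm hw1, Ne.symm hx1, Ne.symm hwx1, Ne.symm y1]),
          Finset.card_insert_of_notMem (by simp [Ne.symm hxw, Ne.symm hwxw, Ne.symm y2]),
          Finset.card_insert_of_notMem (by simp [Ne.symm hwxx, Ne.symm y3]),
          Finset.card_pair (Ne.symm y4)] at hc
        omega
      have hz1 : z₀ ≠ 1 := fun h => hne (by rw [h, mul_one, mul_inv_cancel])
      have hzw : z₀ ≠ w := fun h => hne (by rw [h]; exact hfix)
      set x' := n₀ * z₀ * n₀⁻¹ with hx'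
      have hx'Z : x' ∈ Z := hconjZ hn₀ z₀ hz₀
      have hx'eq : x' = w * z₀ := by
        rcases hprod z₀ hz₀ hz1 hzw x' hx'Z with h | h | h | h
        · exact absurd h (fun h => hz1 (by rwa [hx', conj_eq_one_iff] at h))
        · have : z₀ = w := by
            have h' := h.trans hfix.symm
            rw [hx'] at h'
            exact mul_left_cancel (mul_right_cancel h')
          exact absurd this hzw
        · exact absurd h hne
        · exact h
      -- the swap has square fixing `z₀`; an odd power of `n₀` then fixes `z₀`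
      have hback : n₀ * x' * n₀⁻¹ = z₀ := by
        rw [hx'eq, ← conj_mul, hfix, ← hx', hx'eq, ← mul_assoc, ((memZ w).1 hw).2, one_mul]
      have hev : ∀ k, n₀ ^ (2 * k) * z₀ * (n₀ ^ (2 * k))⁻¹ = z₀ := by
        intro k
        induction k with
        | zero => rw [mul_zero, pow_zero, one_mul, inv_one, mul_one]
        | succ k ih =>
          calc n₀ ^ (2 * (k + 1)) * z₀ * (n₀ ^ (2 * (k + 1)))⁻¹
              = n₀ * (n₀ * (n₀ ^ (2 * k) * z₀ * (n₀ ^ (2 * k))⁻¹) * n₀⁻¹) * n₀⁻¹ := by group
            _ = z₀ := by rw [ih, ← hx', hback]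
      -- the 2-part of `n₀` lies in `S`
      have hidx : ∀ k, (n₀ ^ (2 * k + 1)) ∈ (S : Subgroup G) → False := by
        intro k hk
        have h1 : n₀ ^ (2 * k + 1) * z₀ * (n₀ ^ (2 * k + 1))⁻¹ = z₀ := by
          rw [Zcent z₀ hz₀ _ hk, mul_inv_cancel_right]
        apply hne
        calc n₀ * z₀ * n₀⁻¹ = n₀ * (n₀ ^ (2 * k) * z₀ * (n₀ ^ (2 * k))⁻¹) * n₀⁻¹ := by rw [hev k]
          _ = n₀ ^ (2 * k + 1) * z₀ * (n₀ ^ (2 * k + 1))⁻¹ := by group
          _ = z₀ := h1
      set M : Subgroup ↥Nz := (S : Subgroup G).subgroupOf Nz with hM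
      haveI : M.Normal := Subgroup.normal_in_normalizer
      have hodd : Odd M.index := by
        refine Nat.not_even_iff_odd.1 fun h2 => S.not_dvd_index ((even_iff_two_dvd.1 h2).trans ?_)
        exact Subgroup.relIndex_dvd_index_of_le (Subgroup.le_normalizer)
      have hpow := M.pow_index_mem ⟨n₀, hn₀⟩
      obtain ⟨k, hk⟩ := hodd
      rw [hk, hM, Subgroup.mem_subgroupOf] at hpow
      exact hidx k (by simpa using hpow)
    have mapZ : ∀ N : Subgroup G, N.Normal → N ≠ ⊥ → Z ≤ N := by
      intro N hN hbot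
      have heven : Even (Nat.card N) := Nat.not_odd_iff_even.1 fun h =>
        hbot (le_bot_iff.1 (hO ▸ le_sSup ⟨hN, Nat.coprime_two_right.2 h⟩))
      obtain ⟨i, hi⟩ := exists_prime_orderOf_dvd_card' (G := N) 2 (even_iff_two_dvd.1 heven)
      have hi' : orderOf (i : G) = 2 := by rw [← hi]; exact Subgroup.orderOf_coe i
      have hp : IsPGroup 2 (Subgroup.zpowers (i : G)) :=
        IsPGroup.of_card (n := 1) (by rw [Nat.card_zpowers, hi', pow_one])
      obtain ⟨P, hP⟩ := hp.exists_le_sylow
      obtain ⟨g, hg⟩ := MulAction.exists_smul_eq G P S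
      set j := g * (i : G) * g⁻¹ with hj
      have hjS : j ∈ (S : Subgroup G) := by
        rw [← hg]
        exact Subgroup.smul_mem_pointwise_smul (i : G) (MulAut.conj g) (P : Subgroup G) (hP (Subgroup.mem_zpowers _))
      have hjN : j ∈ N := hN.conj_mem _ i.2 g
      have hj2 : j * j = 1 := by
        rw [hj, conj_mul, show (i : G) * i = 1 by rw [← sq, ← hi']; exact pow_orderOf_eq_one _, mul_one,
          mul_inv_cancel]
      have hjZ : j ∈ Z := (memZ j).2 ⟨hjS, hj2⟩
      have hj1 : j ≠ 1 := fun h => by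
        rw [hj, conj_eq_one_iff] at h
        rw [h, orderOf_one] at hi'
        omega
      set k := n₀ * j * n₀⁻¹ with hk
      have hkN : k ∈ N := hN.conj_mem _ hjN n₀
      have hkj : k ≠ j := fun h => hj1 (key j hjZ h)
      have hk1 : k ≠ 1 := fun h => hj1 (by rwa [hk, conj_eq_one_iff] at h)
      have hd : Nat.card ↥(Z ⊓ N) ∣ 2 ^ 2 := by
        rw [show (2 : ℕ) ^ 2 = Nat.card Z by rw [cardZ]; norm_num]
        exact Subgroup.card_dvd_of_le inf_le_left
      have h3 : 3 ≤ Nat.card ↥(Z ⊓ N) := by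
        have hsub : ({1, j, k} : Finset G) ⊆ (Set.toFinite ((Z ⊓ N : Subgroup G) : Set G)).toFinset := by
          intro a ha
          simp only [Finset.mem_insert, Finset.mem_singleton] at ha
          rw [Set.Finite.mem_toFinset, SetLike.mem_coe]
          rcases ha with rfl | rfl | rfl
          exacts [one_mem _, ⟨hjZ, hjN⟩, ⟨hconjZ hn₀ j hjZ, hkN⟩]
        have hc := Finset.card_le_card hsub
        rw [Finset.card_insert_of_notMem (by simp [Ne.symm hj1, Ne.symm hk1]),
          Finset.card_pair (Ne.symm hkj), ← Nat.card_eq_card_finite_toFinset] at hc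
        exact hc
      have he : Z ⊓ N = Z := Subgroup.eq_of_le_of_card_ge inf_le_left (by
        rw [cardZ]
        obtain ⟨m, hm, hm'⟩ := (Nat.dvd_prime_pow Nat.prime_two).1 hd
        interval_cases m <;> omega)
      exact he.ge.trans inf_le_right
    have hS1 : (S : Subgroup G) ≠ ⊥ := fun h => by
      have := hS.card
      rw [h] at this
      simp at this
    haveI : Nontrivial G := by
      obtain ⟨x, -, hx⟩ := (S : Subgroup G).bot_or_exists_ne_one.resolve_left hS1
      exact ⟨⟨x, 1, hx⟩⟩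
    refine ⟨fun N hN => ?_⟩
    by_contra hcases
    push Not at hcases
    obtain ⟨hNbot, hNtop⟩ := hcases
    haveI := hN
    have hZN : Z ≤ N := mapZ N hN hNbot
    set NZ := Subgroup.normalizer (Z : Set G) with hNZ
    -- the Frattini argument
    obtain ⟨T, hTeq⟩ := Cfsg.Agent.H78.exists_sylow_inf_normal N S
    have hfrat : Subgroup.normalizer (((T : Subgroup N).map N.subtype : Subgroup G) : Set G) ≤ NZ := by
      rw [hTeq]
      intro g hg
      rw [hNZ, Subgroup.mem_normalizer_iff]
      intro z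
      rw [memZ, memZ]
      constructor
      · rintro ⟨hzS, hz2⟩
        exact ⟨((Subgroup.mem_normalizer_iff.1 hg z).1 ⟨hzS, hZN ((memZ z).2 ⟨hzS, hz2⟩)⟩).1, by
          rw [conj_mul, hz2, mul_one, mul_inv_cancel]⟩
      · rintro ⟨hzS, hz2⟩
        have hz2' : z * z = 1 := by rw [conj_mul, conj_eq_one_iff] at hz2; exact hz2
        have hgN : g * z * g⁻¹ ∈ N := hZN ((memZ _).2 ⟨hzS, hz2⟩)
        exact ⟨((Subgroup.mem_normalizer_iff.1 hg z).2 ⟨hzS, hgN⟩).1, hz2'⟩
    have hcover : N ⊔ NZ = ⊤ := top_le_iff.1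
      ((Sylow.normalizer_sup_eq_top T).ge.trans (sup_le (hfrat.trans le_sup_right) le_sup_left))
    -- the centraliser of the centre
    set C := Subgroup.centralizer (Z : Set G) with hC'
    have hSC : (S : Subgroup G) ≤ C := fun s hs =>
      Subgroup.mem_centralizer_iff.2 fun z hz => (Zcent z hz s hs).symm
    have hshape : Shape ((S.subtype hSC : Sylow 2 C) : Subgroup C) :=
      Shape.of_equiv (Subgroup.subgroupOfEquivOfLe hSC).symm hS
    have hK' : (Cfsg.oddCore C ⊔ ((S.subtype hSC : Sylow 2 C) : Subgroup C)).Normal := by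
      refine hC C (S.subtype hSC) hshape fun z hz => Subgroup.mem_center_iff.2 fun c => Subtype.ext ?_
      have hzZ : ((z : C) : G) ∈ Z := by
        refine (memZ _).2 ⟨z.2, ?_⟩
        exact congrArg (fun w : ↥((S.subtype hSC : Sylow 2 C) : Subgroup C) => ((w : C) : G))
          ((hshape.sq_eq_one z).2 hz)
      exact (Subgroup.mem_centralizer_iff.1 c.2 _ hzZ).symm
    set O := (Cfsg.oddCore C).map C.subtype with hOdef
    haveI : (Cfsg.oddCore C).Characteristic := Cfsg.Agent.Cores.pPrimeCore_characteristic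
    have hOC : O ≤ C := Subgroup.map_subtype_le _
    have hCN : C ≤ NZ := Subgroup.centralizer_le_normalizer _
    have hNC : NZ ≤ Subgroup.normalizer (C : Set G) :=
      (Subgroup.normal_subgroupOf_iff_le_normalizer hCN).1 (Subgroup.normal_subgroupOf_centralizer_normalizer _)
    have hOnorm : NZ ≤ Subgroup.normalizer (O : Set G) := le_normalizer_map_characteristic _ hNC
    set M := Cfsg.oddCore C ⊔ ((S.subtype hSC : Sylow 2 C) : Subgroup C) with hMdef
    haveI := hK'
    haveI : M.Characteristic := by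
      refine Subgroup.characteristic_iff_map_le.2 fun φ => ?_
      rw [hMdef, Subgroup.map_sup]
      refine sup_le (le_sup_of_le_left (Subgroup.characteristic_iff_map_le.1 inferInstance φ)) ?_
      obtain ⟨P', hP'⟩ : ∃ P' : Sylow 2 C, (P' : Subgroup C) =
          ((S.subtype hSC : Sylow 2 C) : Subgroup C).map φ.toMonoidHom :=
        ⟨(S.subtype hSC).mapSurjective (f := φ.toMonoidHom) φ.surjective, rfl⟩
      rw [← hP', ← hMdef]
      obtain ⟨g, hg⟩ := MulAction.exists_smul_eq C (S.subtype hSC) P'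
      rw [← hg]
      intro x hx
      obtain ⟨y, hy, rfl⟩ := hx
      exact hK'.conj_mem y (le_sup_right (a := Cfsg.oddCore C) hy) g
    set K := M.map C.subtype with hKdef
    have hSK : (S : Subgroup G) ≤ K := fun s hs =>
      ⟨⟨s, hSC hs⟩, le_sup_right (a := Cfsg.oddCore C) hs, rfl⟩
    have hKO : K = O ⊔ (S : Subgroup G) := by
      rw [hKdef, hMdef, Subgroup.map_sup, hOdef, Sylow.coe_subtype, Subgroup.subgroupOf_map_subtype,
        inf_of_le_left hSC]
    have normal_sup : ∀ A : Subgroup G, NZ ≤ Subgroup.normalizer (A : Set G) → (N ⊔ A).Normal := by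
      intro A hA
      rw [← Subgroup.normalizer_eq_top_iff, ← top_le_iff, ← hcover]
      refine sup_le (le_sup_left.trans Subgroup.le_normalizer) ?_
      intro g hg
      refine mem_normalizer_of_map_conj_eq ?_
      rw [Subgroup.map_sup, map_conj_eq_of_mem_normalizer (hA hg),
        map_conj_eq_of_mem_normalizer (Subgroup.mem_normalizer_iff.2 fun x =>
          ⟨fun h => hN.conj_mem x h g, fun h => by simpa [mul_assoc] using hN.conj_mem _ h g⁻¹⟩)]
    have hodd_top : ∀ A : Subgroup G, A.Normal → (S : Subgroup G) ≤ A → A = ⊤ := fun A hA hSA =>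
      hO' A hA (Nat.not_even_iff_odd.1 fun h2 =>
        S.not_dvd_index ((even_iff_two_dvd.1 h2).trans (Subgroup.index_dvd_of_le hSA)))
    haveI hL : (N ⊔ O).Normal := normal_sup O hOnorm
    have hgen : (N ⊔ O) ⊔ (S : Subgroup G) = ⊤ := by
      rw [sup_assoc, ← hKO]
      exact hodd_top _ (normal_sup K (le_normalizer_map_characteristic _ hNC)) (hSK.trans le_sup_right)
    have hOodd : Odd (Nat.card O) := by
      rw [hOdef, Nat.card_congr ((Cfsg.oddCore C).equivMapOfInjective _ C.subtype_injective).toEquiv.symm]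
      exact Cfsg.Agent.Cores.odd_card_oddCore
    have hSL : ∀ x ∈ (S : Subgroup G), x ∈ N ⊔ O → x ∈ N := by
      intro x hx hxL
      obtain ⟨n, hn, o, ho, rfl⟩ := Subgroup.mem_sup_of_normal_left.1 hxL
      refine (QuotientGroup.eq_one_iff (N := N) _).1 (orderOf_eq_one_iff.1 ?_)
      obtain ⟨k, hk⟩ := (IsPGroup.iff_orderOf.1 S.2) ⟨n * o, hx⟩
      refine Nat.eq_one_of_dvd_coprimes
        (Nat.Coprime.pow_left k (Nat.coprime_two_left.2 hOodd)) ?_ ?_
      · rw [← hk, ← Subgroup.orderOf_coe]
        exact orderOf_map_dvd (QuotientGroup.mk' N) (n * o)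
      · rw [QuotientGroup.mk_mul, (QuotientGroup.eq_one_iff (N := N) n).2 hn, one_mul]
        exact (orderOf_map_dvd (QuotientGroup.mk' N) o).trans (Subgroup.orderOf_dvd_natCard O ho)
    -- the quotient has exponent two
    let π := QuotientGroup.mk' (N ⊔ O)
    have hsq2 : ∀ q : G ⧸ (N ⊔ O), q * q = 1 ∧ ∀ r : G ⧸ (N ⊔ O), q * r = r * q := by
      have hmap : (S : Subgroup G).map π = ⊤ := by
        rw [eq_top_iff]
        rintro q -
        obtain ⟨g, rfl⟩ := QuotientGroup.mk'_surjective (N ⊔ O) q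
        obtain ⟨l, hl, s, hs, rfl⟩ := Subgroup.mem_sup_of_normal_left.1 (hgen.ge (Subgroup.mem_top g))
        refine ⟨s, hs, ?_⟩
        rw [map_mul, show π l = 1 from (QuotientGroup.eq_one_iff l).2 hl, one_mul]
      have h1 : ∀ q : G ⧸ (N ⊔ O), q * q = 1 := by
        intro q
        obtain ⟨s, hs, rfl⟩ := hmap.ge (Subgroup.mem_top q)
        rw [← map_mul]
        exact (QuotientGroup.eq_one_iff _).2 (Subgroup.mem_sup_left (hZN (hsqS s hs)))
      intro q
      refine ⟨h1 q, fun r => ?_⟩
      have hinv : ∀ a : G ⧸ (N ⊔ O), a⁻¹ = a := fun a => inv_eq_of_mul_eq_one_left (h1 a)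
      rw [← hinv (q * r), mul_inv_rev, hinv, hinv]
    -- every element of the Sylow subgroup is a commutator with `n₀` up to the centre
    haveI : IsMulCommutative ((S : Subgroup G) ⧸ Subgroup.center (S : Subgroup G)) := by
      refine ⟨⟨fun a b => ?_⟩⟩
      have h1 : ∀ c : (S : Subgroup G) ⧸ Subgroup.center (S : Subgroup G), c⁻¹ = c := by
        intro c
        obtain ⟨c, rfl⟩ := QuotientGroup.mk'_surjective _ c
        refine inv_eq_of_mul_eq_one_left ?_
        rw [← map_mul]
        exact (QuotientGroup.eq_one_iff _).2 (hS.sq_mem c)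
      rw [← h1 (a * b), mul_inv_rev, h1, h1]
    let α : (S : Subgroup G) →* (S : Subgroup G) :=
      { toFun := fun x => ⟨n₀ * x * n₀⁻¹, hconjS hn₀ x x.2⟩
        map_one' := Subtype.ext (by simp)
        map_mul' := fun x y => Subtype.ext (conj_mul).symm }
    let μ := QuotientGroup.mk' (Subgroup.center (S : Subgroup G))
    let χ : (S : Subgroup G) →* (S : Subgroup G) ⧸ Subgroup.center (S : Subgroup G) :=
      { toFun := fun x => μ (α x) * (μ x)⁻¹
        map_one' := by simp
        map_mul' := fun x y => by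
          rw [map_mul, map_mul, map_mul, mul_inv_rev]
          have hc := IsMulCommutative.is_comm (M := (S : Subgroup G) ⧸ Subgroup.center (S : Subgroup G))
          calc μ (α x) * μ (α y) * ((μ y)⁻¹ * (μ x)⁻¹)
              = μ (α x) * ((μ (α y) * (μ y)⁻¹) * (μ x)⁻¹) := by group
            _ = μ (α x) * ((μ x)⁻¹ * (μ (α y) * (μ y)⁻¹)) := by rw [hc.comm _ (μ x)⁻¹]
            _ = _ := by group }
    have hker : χ.ker = Subgroup.center (S : Subgroup G) := by
      ext x
      rw [MonoidHom.mem_ker]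
      change μ (α x) * (μ x)⁻¹ = 1 ↔ _
      rw [← map_inv, ← map_mul]
      rw [show (μ (α x * x⁻¹) = 1) ↔ α x * x⁻¹ ∈ Subgroup.center (S : Subgroup G) from
        QuotientGroup.eq_one_iff _]
      constructor
      · intro hd
        set d := α x * x⁻¹ with hddef
        have hax : α x = d * x := by rw [hddef, inv_mul_cancel_right]
        have hd2 : d * d = 1 := (hS.sq_eq_one d).2 hd
        have h2 : α (x * x) = x * x := by
          rw [map_mul, hax]
          calc d * x * (d * x) = d * (x * d) * x := by group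
            _ = d * (d * x) * x := by rw [Subgroup.mem_center_iff.1 hd x]
            _ = x * x := by rw [← mul_assoc, hd2, one_mul]
        have h3 := key _ (hsqS x x.2) (congrArg Subtype.val h2)
        exact (hS.sq_eq_one x).1 (Subtype.ext h3)
      · intro hx
        refine mul_mem ((hS.sq_eq_one _).1 ?_) (inv_mem hx)
        rw [← map_mul, (hS.sq_eq_one x).2 hx, map_one]
    have hsurj : Function.Surjective χ := by
      rw [← MonoidHom.range_eq_top]
      refine Subgroup.eq_top_of_le_card _ (le_of_eq ?_)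
      rw [← Nat.card_congr (QuotientGroup.quotientKerEquivRange χ).toEquiv, hker]
    have hSN : (S : Subgroup G) ≤ N := by
      intro s hs
      obtain ⟨x, hx⟩ := hsurj (μ ⟨s, hs⟩)
      change μ (α x) * (μ x)⁻¹ = _ at hx
      rw [← map_inv, ← map_mul] at hx
      have hz := (QuotientGroup.eq (s := Subgroup.center (S : Subgroup G))).1 hx
      have hcN : n₀ * x * n₀⁻¹ * (x : G)⁻¹ ∈ N := by
        refine hSL _ (mul_mem (α x).2 (inv_mem x.2)) ((QuotientGroup.eq_one_iff _).1 ?_)
        show π (n₀ * x * n₀⁻¹ * (x : G)⁻¹) = 1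
        rw [map_mul, map_mul, map_mul, map_inv, map_inv, (hsq2 (π n₀)).2, mul_inv_cancel_right,
          mul_inv_cancel]
      have hzN : (((α x * x⁻¹)⁻¹ * ⟨s, hs⟩ : (S : Subgroup G)) : G) ∈ N := hZN ⟨_, hz, rfl⟩
      have := mul_mem hcN hzN
      rwa [show n₀ * x * n₀⁻¹ * (x : G)⁻¹ * (((α x * x⁻¹)⁻¹ * ⟨s, hs⟩ : (S : Subgroup G)) : G) = s by
        show n₀ * x * n₀⁻¹ * (x : G)⁻¹ * ((n₀ * x * n₀⁻¹ * (x : G)⁻¹)⁻¹ * s) = s
        rw [mul_inv_cancel_left]] at this
    exact hNtop (hodd_top N hN hSN)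

end Cfsg.Agent.H31.U34
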